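import Cfsg.Agent.AN.Rep.LRD

set_option autoImplicit false
set_option Elab.async false
set_option maxRecDepth 100000
set_option exponentiation.threshold 400000

namespace Cfsg.Agent.AN.LR

open Cfsg Cfsg.Agent.H58 Cfsg.Agent.H17

open LyR (E basis)

def p1 : List (List ℕ × List ℕ) := [([1, 5, 3, 1, 5, 3], [3, 5, 1, 3, 5, 1]),
  ([1, 6, 3, 1, 6], [3, 6, 1, 3]),
  ([1, 5, 4, 1, 5, 4], [4, 5, 1, 4, 5, 1]),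
  ([1, 6, 4, 1, 6], [4, 6, 1, 4]),
  ([2, 4, 3, 2, 4], [3, 4, 2, 3]),
  ([2, 5, 3, 2, 5], [3, 5, 2, 3]),
  ([2, 6, 3, 2, 6, 3], [3, 6, 2, 3, 6, 2]),
  ([2, 5, 4, 2, 5], [4, 5, 2, 4]),
  ([2, 6, 4, 2, 6, 4], [4, 6, 2, 4, 6, 2]),
  ([5, 4, 3, 5, 4], [3, 4, 5, 3]),
  ([6, 4, 3, 6, 4], [3, 4, 6, 3]),
  ([5, 6, 3, 5, 6, 3], [3, 6, 5, 3, 6, 5]),
  ([1, 2, 1, 4], [4, 1, 2, 1]),
  ([1, 2, 4, 2], [2, 4, 2, 1])]
theorem p1_0 : meqAt E 37 mats p1 0 = true := by decide +kernel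
theorem p1_1 : meqAt E 37 mats p1 1 = true := by decide +kernel
theorem p1_2 : meqAt E 37 mats p1 2 = true := by decide +kernel
theorem p1_eq : ∀ q ∈ p1, (q.1.map (lmat E mats)).prod = (q.2.map (lmat E mats)).prod :=
  meq_sound matsOK (m := 37) (J := 3) (by decide) basis (blocks_cons (blocks_cons (blocks_cons (blocks_nil _) p1_0) p1_1) p1_2)

def p5 : List (List ℕ × List ℕ) := [([2, 6, 4, 2, 4], [4, 2, 4, 6, 2]),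
  ([2, 6, 2, 6, 4], [4, 6, 2, 6, 2]),
  ([2, 6, 4, 6, 4], [4, 6, 4, 6, 2]),
  ([2, 5, 6, 2, 6], [6, 2, 6, 5, 2]),
  ([5, 4, 3, 5, 3], [3, 5, 3, 4, 5]),
  ([6, 4, 3, 6, 3], [3, 6, 3, 4, 6]),
  ([5, 6, 3, 5, 3], [3, 5, 3, 6, 5]),
  ([5, 6, 3, 6, 3], [3, 6, 3, 6, 5]),
  ([5, 6, 5, 6, 3], [3, 6, 5, 6, 5]),
  ([1, 2, 1, 2, 1, 4], [4, 1, 2, 1, 2, 1]),
  ([1, 2, 1, 2, 3, 5], [5, 3, 2, 1, 2, 1]),
  ([1, 2, 1, 2, 3, 6], [6, 3, 2, 1, 2, 1]),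
  ([1, 2, 1, 2, 4, 2], [2, 4, 2, 1, 2, 1]),
  ([1, 2, 1, 2, 5, 3], [3, 5, 2, 1, 2, 1])]
theorem p5_0 : meqAt E 37 mats p5 0 = true := by decide +kernel
theorem p5_1 : meqAt E 37 mats p5 1 = true := by decide +kernel
theorem p5_2 : meqAt E 37 mats p5 2 = true := by decide +kernel
theorem p5_eq : ∀ q ∈ p5, (q.1.map (lmat E mats)).prod = (q.2.map (lmat E mats)).prod :=
  meq_sound matsOK (m := 37) (J := 3) (by decide) basis (blocks_cons (blocks_cons (blocks_cons (blocks_nil _) p5_0) p5_1) p5_2)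

def p9 : List (List ℕ × List ℕ) := [([1, 6, 3, 4, 1, 4], [4, 1, 4, 3, 6, 1]),
  ([1, 5, 1, 5, 1, 4], [4, 1, 5, 1, 5, 1]),
  ([1, 5, 4, 5, 1, 4], [4, 1, 5, 4, 5, 1]),
  ([1, 6, 2, 6, 1, 4], [4, 1, 6, 2, 6, 1]),
  ([1, 6, 4, 6, 1, 4], [4, 1, 6, 4, 6, 1]),
  ([1, 4, 2, 4, 2, 4], [4, 2, 4, 2, 4, 1]),
  ([1, 5, 1, 5, 2, 4], [4, 2, 5, 1, 5, 1]),
  ([1, 6, 2, 6, 2, 4], [4, 2, 6, 2, 6, 1]),
  ([1, 5, 3, 5, 3, 4], [4, 3, 5, 3, 5, 1]),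
  ([1, 6, 3, 6, 3, 4], [4, 3, 6, 3, 6, 1]),
  ([1, 5, 4, 1, 4, 5], [5, 4, 1, 4, 5, 1]),
  ([1, 5, 1, 4, 5, 4], [4, 5, 4, 1, 5, 1])]
theorem p9_0 : meqAt E 37 mats p9 0 = true := by decide +kernel
theorem p9_1 : meqAt E 37 mats p9 1 = true := by decide +kernel
theorem p9_2 : meqAt E 37 mats p9 2 = true := by decide +kernel
theorem p9_eq : ∀ q ∈ p9, (q.1.map (lmat E mats)).prod = (q.2.map (lmat E mats)).prod :=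
  meq_sound matsOK (m := 37) (J := 3) (by decide) basis (blocks_cons (blocks_cons (blocks_cons (blocks_nil _) p9_0) p9_1) p9_2)

def p13 : List (List ℕ × List ℕ) := [([2, 6, 3, 6, 3, 4], [4, 3, 6, 3, 6, 2]),
  ([2, 6, 4, 2, 4, 6], [6, 4, 2, 4, 6, 2]),
  ([2, 6, 2, 4, 6, 4], [4, 6, 4, 2, 6, 2]),
  ([2, 4, 6, 4, 6, 4], [4, 6, 4, 6, 4, 2]),
  ([2, 5, 2, 5, 4, 5], [5, 4, 5, 2, 5, 2]),
  ([2, 5, 3, 5, 2, 6], [6, 2, 5, 3, 5, 2]),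
  ([2, 5, 3, 6, 2, 6], [6, 2, 6, 3, 5, 2]),
  ([2, 5, 3, 6, 5, 6], [6, 5, 6, 3, 5, 2]),
  ([2, 5, 6, 3, 5, 6], [6, 5, 3, 6, 5, 2]),
  ([2, 5, 6, 5, 2, 6], [6, 2, 5, 6, 5, 2]),
  ([2, 5, 6, 5, 3, 6], [6, 3, 5, 6, 5, 2]),
  ([2, 6, 2, 6, 3, 6], [6, 3, 6, 2, 6, 2])]
theorem p13_0 : meqAt E 37 mats p13 0 = true := by decide +kernel
theorem p13_1 : meqAt E 37 mats p13 1 = true := by decide +kernel
theorem p13_2 : meqAt E 37 mats p13 2 = true := by decide +kernel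
theorem p13_eq : ∀ q ∈ p13, (q.1.map (lmat E mats)).prod = (q.2.map (lmat E mats)).prod :=
  meq_sound matsOK (m := 37) (J := 3) (by decide) basis (blocks_cons (blocks_cons (blocks_cons (blocks_nil _) p13_0) p13_1) p13_2)

def p17 : List (List ℕ × List ℕ) := [([4, 1, 5, 7, 5, 7, 5, 1, 4, 1, 5, 7], [1, 5, 7, 5, 7, 5, 1, 4, 1, 5, 7, 5]),
  ([4, 2, 5, 7, 5, 7, 5, 2, 4, 2, 5, 7], [2, 5, 7, 5, 7, 5, 2, 4, 2, 5, 7, 5]),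
  ([4, 5, 1, 5, 7, 5, 1, 5, 4, 5, 1, 5], [5, 1, 5, 7, 5, 1, 5, 4, 5, 1, 5, 7]),
  ([4, 5, 1, 7, 5, 7, 1, 5, 4, 5, 1, 7], [5, 1, 7, 5, 7, 1, 5, 4, 5, 1, 7, 5]),
  ([4, 5, 7, 1, 5, 1, 7, 5, 4, 5, 7, 1], [5, 7, 1, 5, 1, 7, 5, 4, 5, 7, 1, 5]),
  ([4, 5, 7, 3, 5, 3, 7, 5, 4, 5, 7, 3], [5, 7, 3, 5, 3, 7, 5, 4, 5, 7, 3, 5])]
theorem p17_0 : meqAt E 37 mats p17 0 = true := by decide +kernel
theorem p17_1 : meqAt E 37 mats p17 1 = true := by decide +kernel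
theorem p17_2 : meqAt E 37 mats p17 2 = true := by decide +kernel
theorem p17_eq : ∀ q ∈ p17, (q.1.map (lmat E mats)).prod = (q.2.map (lmat E mats)).prod :=
  meq_sound matsOK (m := 37) (J := 3) (by decide) basis (blocks_cons (blocks_cons (blocks_cons (blocks_nil _) p17_0) p17_1) p17_2)

def p21 : List (List ℕ × List ℕ) := [([1, 3, 2, 5, 6, 12], [12, 1, 3, 2, 5, 6]),
  ([10, 8, 11, 12], [13, 10, 8, 11]),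
  ([12, 10, 12, 11, 12, 10], [2, 1, 2, 1, 10, 13]),
  ([12, 2, 5, 6, 1, 3, 12, 2], [2, 1, 2, 1, 3, 1, 6, 5]),
  ([9, 12, 10], [13, 10, 12]),
  ([12, 6, 10, 13, 1, 10, 12, 6, 1, 7, 2, 5, 6, 4, 6, 5, 2, 7], [7, 2, 5, 6, 4, 6, 5, 2, 7, 12, 6, 10, 13, 1, 10, 12, 6, 1])]
theorem p21_0 : meqAt E 37 mats p21 0 = true := by decide +kernel
theorem p21_1 : meqAt E 37 mats p21 1 = true := by decide +kernel
theorem p21_2 : meqAt E 37 mats p21 2 = true := by decide +kernel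
theorem p21_eq : ∀ q ∈ p21, (q.1.map (lmat E mats)).prod = (q.2.map (lmat E mats)).prod :=
  meq_sound matsOK (m := 37) (J := 3) (by decide) basis (blocks_cons (blocks_cons (blocks_cons (blocks_nil _) p21_0) p21_1) p21_2)


end Cfsg.Agent.AN.LR
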