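import Cfsg.Agent.AN.Rep.LRD

set_option autoImplicit false
set_option Elab.async false
set_option maxRecDepth 100000
set_option exponentiation.threshold 400000

namespace Cfsg.Agent.AN.LR

open Cfsg Cfsg.Agent.H58 Cfsg.Agent.H17

open LyR (E basis)

def p2 : List (List ℕ × List ℕ) := [([1, 4, 1, 3, 1, 4], [3, 1, 4, 1, 3, 1]),
  ([1, 5, 1, 3], [3, 1, 5, 1]),
  ([1, 4, 5, 3, 1, 4], [3, 5, 4, 1, 3, 5]),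
  ([1, 3, 6, 3, 1, 3], [3, 6, 3, 1, 3, 6]),
  ([1, 5, 3, 4, 1, 5], [4, 3, 5, 1, 4, 3]),
  ([1, 4, 6, 4, 1, 4], [4, 6, 4, 1, 4, 6]),
  ([1, 5, 4, 5], [5, 4, 5, 1]),
  ([2, 4, 2, 3, 2, 4], [3, 2, 4, 2, 3, 2]),
  ([2, 6, 2, 3], [3, 2, 6, 2]),
  ([2, 3, 5, 3, 2, 3], [3, 5, 3, 2, 3, 5]),
  ([2, 4, 6, 3, 2, 4], [3, 6, 4, 2, 3, 6]),
  ([2, 6, 3, 4, 2, 6], [4, 3, 6, 2, 4, 3]),
  ([2, 4, 5, 4, 2, 4], [4, 5, 4, 2, 4, 5])]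
theorem p2_0 : meqAt E 37 mats p2 0 = true := by decide +kernel
theorem p2_1 : meqAt E 37 mats p2 1 = true := by decide +kernel
theorem p2_2 : meqAt E 37 mats p2 2 = true := by decide +kernel
theorem p2_eq : ∀ q ∈ p2, (q.1.map (lmat E mats)).prod = (q.2.map (lmat E mats)).prod :=
  meq_sound matsOK (m := 37) (J := 3) (by decide) basis (blocks_cons (blocks_cons (blocks_cons (blocks_nil _) p2_0) p2_1) p2_2)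

def p6 : List (List ℕ × List ℕ) := [([1, 2, 1, 2, 6, 3], [3, 6, 2, 1, 2, 1]),
  ([1, 2, 1, 3, 2, 3], [3, 2, 3, 1, 2, 1]),
  ([1, 2, 1, 6, 2, 3], [3, 2, 6, 1, 2, 1]),
  ([1, 2, 1, 4, 2, 4], [4, 2, 4, 1, 2, 1]),
  ([1, 2, 1], [6, 2, 6]),
  ([1, 2, 1, 6, 4, 6], [6, 4, 6, 1, 2, 1]),
  ([1, 2, 3, 1, 3, 2], [2, 3, 1, 3, 2, 1]),
  ([1, 2, 5, 1, 3, 2], [2, 3, 1, 5, 2, 1]),
  ([1, 2, 4, 1, 4, 2], [2, 4, 1, 4, 2, 1]),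
  ([1, 2, 4], [4, 1, 2]),
  ([1, 2, 4, 5, 1, 5], [5, 1, 5, 4, 2, 1]),
  ([1, 2, 4, 6, 2, 6], [6, 2, 6, 4, 2, 1]),
  ([1, 2, 5], [2, 5, 1]),
  ([1, 2, 5, 1, 5, 4], [4, 5, 1, 5, 2, 1])]
theorem p6_0 : meqAt E 37 mats p6 0 = true := by decide +kernel
theorem p6_1 : meqAt E 37 mats p6 1 = true := by decide +kernel
theorem p6_2 : meqAt E 37 mats p6 2 = true := by decide +kernel
theorem p6_eq : ∀ q ∈ p6, (q.1.map (lmat E mats)).prod = (q.2.map (lmat E mats)).prod :=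
  meq_sound matsOK (m := 37) (J := 3) (by decide) basis (blocks_cons (blocks_cons (blocks_cons (blocks_nil _) p6_0) p6_1) p6_2)

def p10 : List (List ℕ × List ℕ) := [([1, 4, 5, 4, 5, 4], [4, 5, 4, 5, 4, 1]),
  ([1, 5, 1, 5, 3, 5], [5, 3, 5, 1, 5, 1]),
  ([1, 5, 1, 5, 3, 6], [6, 3, 5, 1, 5, 1]),
  ([1, 5, 1, 6, 3, 6], [6, 3, 6, 1, 5, 1]),
  ([1, 5, 1, 6, 5, 6], [6, 5, 6, 1, 5, 1]),
  ([1, 5, 2, 4, 2, 5], [5, 2, 4, 2, 5, 1]),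
  ([1, 5, 3, 6, 5, 6], [6, 5, 6, 3, 5, 1]),
  ([1, 5, 6, 3, 5, 6], [6, 5, 3, 6, 5, 1]),
  ([1, 5, 6, 5, 3, 6], [6, 3, 5, 6, 5, 1]),
  ([1, 6, 1, 6, 4, 6], [6, 4, 6, 1, 6, 1]),
  ([2, 3, 2, 3, 6, 3], [3, 6, 3, 2, 3, 2]),
  ([2, 5, 2, 5, 2, 3], [3, 2, 5, 2, 5, 2])]
theorem p10_0 : meqAt E 37 mats p10 0 = true := by decide +kernel
theorem p10_1 : meqAt E 37 mats p10 1 = true := by decide +kernel
theorem p10_2 : meqAt E 37 mats p10 2 = true := by decide +kernel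
theorem p10_eq : ∀ q ∈ p10, (q.1.map (lmat E mats)).prod = (q.2.map (lmat E mats)).prod :=
  meq_sound matsOK (m := 37) (J := 3) (by decide) basis (blocks_cons (blocks_cons (blocks_cons (blocks_nil _) p10_0) p10_1) p10_2)

def p14 : List (List ℕ × List ℕ) := [([5, 4, 3, 4, 3, 4], [4, 3, 4, 3, 4, 5]),
  ([6, 4, 3, 4, 3, 4], [4, 3, 4, 3, 4, 6]),
  ([5, 4, 3, 5, 3, 4], [4, 3, 5, 3, 4, 5]),
  ([5, 6, 5, 6, 3, 4], [4, 3, 6, 5, 6, 5]),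
  ([6, 4, 3, 6, 3, 4], [4, 3, 6, 3, 4, 6]),
  ([5, 6, 5, 6, 4, 3], [3, 4, 6, 5, 6, 5]),
  ([5, 3, 5, 3, 6, 3], [3, 6, 3, 5, 3, 5]),
  ([5, 3, 6, 3, 6, 3], [3, 6, 3, 6, 3, 5]),
  ([5, 6, 3, 5, 3, 6], [6, 3, 5, 3, 6, 5]),
  ([5, 6, 4, 5, 3, 6], [6, 3, 5, 4, 6, 5]),
  ([5, 6, 3], [3, 5, 6]),
  ([5, 6, 4, 5, 6, 3], [3, 6, 5, 4, 6, 5]),
  ([5, 6, 5, 3, 6, 3], [3, 6, 3, 5, 6, 5])]
theorem p14_0 : meqAt E 37 mats p14 0 = true := by decide +kernel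
theorem p14_1 : meqAt E 37 mats p14 1 = true := by decide +kernel
theorem p14_2 : meqAt E 37 mats p14 2 = true := by decide +kernel
theorem p14_eq : ∀ q ∈ p14, (q.1.map (lmat E mats)).prod = (q.2.map (lmat E mats)).prod :=
  meq_sound matsOK (m := 37) (J := 3) (by decide) basis (blocks_cons (blocks_cons (blocks_cons (blocks_nil _) p14_0) p14_1) p14_2)

def p18 : List (List ℕ × List ℕ) := [([4, 5, 4, 5, 7, 5, 4, 5, 4, 5, 4, 5], [5, 4, 5, 7, 5, 4, 5, 4, 5, 4, 5, 7]),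
  ([4, 5, 4, 7, 5, 7, 4, 5, 4, 5, 4, 7], [5, 4, 7, 5, 7, 4, 5, 4, 5, 4, 7, 5]),
  ([4, 5, 3, 5, 7, 5, 3, 5, 4, 5, 3, 5], [5, 3, 5, 7, 5, 3, 5, 4, 5, 3, 5, 7]),
  ([4, 5, 3, 7, 5, 7, 3, 5, 4, 5, 3, 7], [5, 3, 7, 5, 7, 3, 5, 4, 5, 3, 7, 5]),
  ([4, 7, 5, 7, 5, 7, 5, 7, 4, 7, 5, 7], [7, 5, 7, 5, 7, 5, 7, 4, 7, 5, 7, 5]),
  ([4, 3, 5, 7, 5, 7, 5, 3, 4, 3, 5, 7], [3, 5, 7, 5, 7, 5, 3, 4, 3, 5, 7, 5])]
theorem p18_0 : meqAt E 37 mats p18 0 = true := by decide +kernel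
theorem p18_1 : meqAt E 37 mats p18 1 = true := by decide +kernel
theorem p18_2 : meqAt E 37 mats p18 2 = true := by decide +kernel
theorem p18_eq : ∀ q ∈ p18, (q.1.map (lmat E mats)).prod = (q.2.map (lmat E mats)).prod :=
  meq_sound matsOK (m := 37) (J := 3) (by decide) basis (blocks_cons (blocks_cons (blocks_cons (blocks_nil _) p18_0) p18_1) p18_2)


end Cfsg.Agent.AN.LR
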