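import Cfsg.Agent.AN.Rep.LRD

set_option autoImplicit false
set_option Elab.async false
set_option maxRecDepth 100000
set_option exponentiation.threshold 400000

namespace Cfsg.Agent.AN.LR

open Cfsg Cfsg.Agent.H58 Cfsg.Agent.H17

open LyR (E basis)

def p3 : List (List ℕ × List ℕ) := [([2, 6, 4, 6], [6, 4, 6, 2]),
  ([5, 4, 5, 3, 5, 4], [3, 5, 4, 5, 3, 5]),
  ([5, 6, 5, 3], [3, 5, 6, 5]),
  ([6, 4, 6, 3, 6, 4], [3, 6, 4, 6, 3, 6]),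
  ([5, 6, 3, 6], [6, 3, 6, 5]),
  ([5, 4, 6, 4, 5, 4], [4, 6, 4, 5, 4, 6]),
  ([1, 2, 1, 2, 3], [3, 2, 1, 2, 1]),
  ([1, 2, 1, 2, 4], [4, 2, 1, 2, 1]),
  ([1, 2, 1, 2, 5], [5, 2, 1, 2, 1]),
  ([1, 2, 1, 2, 6], [6, 2, 1, 2, 1]),
  ([1, 2, 4, 1, 4], [4, 1, 4, 2, 1]),
  ([1, 2, 4, 2, 4], [4, 2, 4, 2, 1]),
  ([1, 2, 5, 1, 5], [5, 1, 5, 2, 1]),
  ([1, 2, 6, 2, 6], [6, 2, 6, 2, 1]),
  ([1, 5, 3, 1, 3], [3, 1, 3, 5, 1])]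
theorem p3_0 : meqAt E 37 mats p3 0 = true := by decide +kernel
theorem p3_1 : meqAt E 37 mats p3 1 = true := by decide +kernel
theorem p3_2 : meqAt E 37 mats p3 2 = true := by decide +kernel
theorem p3_eq : ∀ q ∈ p3, (q.1.map (lmat E mats)).prod = (q.2.map (lmat E mats)).prod :=
  meq_sound matsOK (m := 37) (J := 3) (by decide) basis (blocks_cons (blocks_cons (blocks_cons (blocks_nil _) p3_0) p3_1) p3_2)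

def p7 : List (List ℕ × List ℕ) := [([1, 2, 5, 4, 5, 2], [2, 5, 4, 5, 2, 1]),
  ([1, 2, 6, 2, 6, 4], [4, 6, 2, 6, 2, 1]),
  ([1, 3, 1, 3, 5, 3], [3, 5, 3, 1, 3, 1]),
  ([1, 5, 3, 5, 1, 3], [3, 1, 5, 3, 5, 1]),
  ([1, 6, 1, 6, 1, 3], [3, 1, 6, 1, 6, 1]),
  ([1, 6, 3, 6, 1, 3], [3, 1, 6, 3, 6, 1]),
  ([1, 6, 5, 6, 1, 3], [3, 1, 6, 5, 6, 1]),
  ([1, 4, 3, 1, 3, 4], [4, 3, 1, 3, 4, 1]),
  ([1, 5, 4, 1, 4, 3], [3, 4, 1, 4, 5, 1]),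
  ([1, 3, 4, 3, 4, 3], [3, 4, 3, 4, 3, 1]),
  ([1, 3, 4, 5, 4, 3], [3, 4, 5, 4, 3, 1]),
  ([1, 5, 3, 1, 3, 5], [5, 3, 1, 3, 5, 1])]
theorem p7_0 : meqAt E 37 mats p7 0 = true := by decide +kernel
theorem p7_1 : meqAt E 37 mats p7 1 = true := by decide +kernel
theorem p7_2 : meqAt E 37 mats p7 2 = true := by decide +kernel
theorem p7_eq : ∀ q ∈ p7, (q.1.map (lmat E mats)).prod = (q.2.map (lmat E mats)).prod :=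
  meq_sound matsOK (m := 37) (J := 3) (by decide) basis (blocks_cons (blocks_cons (blocks_cons (blocks_nil _) p7_0) p7_1) p7_2)

def p11 : List (List ℕ × List ℕ) := [([2, 5, 3, 5, 2, 3], [3, 2, 5, 3, 5, 2]),
  ([2, 5, 6, 5, 2, 3], [3, 2, 5, 6, 5, 2]),
  ([2, 6, 3, 6, 2, 3], [3, 2, 6, 3, 6, 2]),
  ([2, 4, 3, 2, 3, 4], [4, 3, 2, 3, 4, 2]),
  ([2, 6, 4, 2, 4, 3], [3, 4, 2, 4, 6, 2]),
  ([2, 3, 4, 3, 4, 3], [3, 4, 3, 4, 3, 2]),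
  ([2, 3, 4, 6, 4, 3], [3, 4, 6, 4, 3, 2]),
  ([2, 4, 5, 3, 5, 3], [3, 5, 3, 5, 4, 2]),
  ([2, 4, 2, 4, 5, 3], [3, 5, 4, 2, 4, 2]),
  ([2, 6, 2, 6, 5, 3], [3, 5, 6, 2, 6, 2]),
  ([2, 6, 5, 6, 5, 3], [3, 5, 6, 5, 6, 2]),
  ([2, 6, 3, 2, 3, 6], [6, 3, 2, 3, 6, 2])]
theorem p11_0 : meqAt E 37 mats p11 0 = true := by decide +kernel
theorem p11_1 : meqAt E 37 mats p11 1 = true := by decide +kernel
theorem p11_2 : meqAt E 37 mats p11 2 = true := by decide +kernel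
theorem p11_eq : ∀ q ∈ p11, (q.1.map (lmat E mats)).prod = (q.2.map (lmat E mats)).prod :=
  meq_sound matsOK (m := 37) (J := 3) (by decide) basis (blocks_cons (blocks_cons (blocks_cons (blocks_nil _) p11_0) p11_1) p11_2)

def p15 : List (List ℕ × List ℕ) := [([5, 6, 5, 4, 6, 3], [3, 6, 4, 5, 6, 5]),
  ([5, 6, 5, 6, 5, 3], [3, 5, 6, 5, 6, 5]),
  ([5, 6, 5, 6, 3, 6], [6, 3, 6, 5, 6, 5]),
  ([10, 10], [11]),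
  ([10, 1], [1, 10]),
  ([10, 2], [2, 10]),
  ([10, 3], [3, 10]),
  ([10, 4], [4, 10]),
  ([10, 5], [5, 10]),
  ([10, 6], [6, 10]),
  ([8, 8, 1], [2, 1, 2]),
  ([8, 10], [11, 8]),
  ([8, 1], [2, 8]),
  ([8, 2], [1, 8]),
  ([8, 3, 9, 6], [5, 6, 5]),
  ([8, 4, 9, 4], [1, 2, 1, 2]),
  ([8, 5, 9, 3], [2, 3, 6, 2]),
  ([8, 6, 9, 3], [1, 3, 5, 1]),
  ([7, 1, 7], [3, 1, 3]),
  ([7, 2], [2, 7]),
  ([7, 3, 2, 3, 7], [4, 3, 2, 3, 4]),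
  ([7, 3, 7], [3, 7, 3])]
theorem p15_0 : meqAt E 37 mats p15 0 = true := by decide +kernel
theorem p15_1 : meqAt E 37 mats p15 1 = true := by decide +kernel
theorem p15_2 : meqAt E 37 mats p15 2 = true := by decide +kernel
theorem p15_eq : ∀ q ∈ p15, (q.1.map (lmat E mats)).prod = (q.2.map (lmat E mats)).prod :=
  meq_sound matsOK (m := 37) (J := 3) (by decide) basis (blocks_cons (blocks_cons (blocks_cons (blocks_nil _) p15_0) p15_1) p15_2)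

def p19 : List (List ℕ × List ℕ) := [([3, 1, 5, 7, 4, 7, 5, 1, 3, 1, 5, 7], [1, 5, 7, 4, 7, 5, 1, 3, 1, 5, 7, 4]),
  ([6, 7, 6, 7, 6], [7, 6, 7, 6, 7]),
  ([3, 6, 7, 6, 3, 6], [6, 7, 6, 3, 6, 7]),
  ([7, 4, 6, 7, 6, 4, 7, 4, 6], [4, 6, 7, 6, 4, 7, 4, 6, 7]),
  ([4, 6, 7, 6, 7, 6, 4, 6, 7], [6, 7, 6, 7, 6, 4, 6, 7, 6]),
  ([4, 7, 6, 7, 6, 7, 4, 7, 6], [7, 6, 7, 6, 7, 4, 7, 6, 7]),
  ([3, 2, 6, 7, 6, 2, 3, 2, 6], [2, 6, 7, 6, 2, 3, 2, 6, 7]),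
  ([3, 6, 2, 7, 2, 6, 3, 6, 2], [6, 2, 7, 2, 6, 3, 6, 2, 7])]
theorem p19_0 : meqAt E 37 mats p19 0 = true := by decide +kernel
theorem p19_1 : meqAt E 37 mats p19 1 = true := by decide +kernel
theorem p19_2 : meqAt E 37 mats p19 2 = true := by decide +kernel
theorem p19_eq : ∀ q ∈ p19, (q.1.map (lmat E mats)).prod = (q.2.map (lmat E mats)).prod :=
  meq_sound matsOK (m := 37) (J := 3) (by decide) basis (blocks_cons (blocks_cons (blocks_cons (blocks_nil _) p19_0) p19_1) p19_2)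


end Cfsg.Agent.AN.LR
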