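import Cfsg.Agent.AN.Rep.LRC0
import Cfsg.Agent.AN.Rep.LRC1
import Cfsg.Agent.AN.Rep.LRC2
import Cfsg.Agent.AN.Rep.LRC3

set_option autoImplicit false
set_option Elab.async false
set_option maxRecDepth 100000
set_option exponentiation.threshold 400000

namespace Cfsg.Agent.AN.LR

open Cfsg Cfsg.Agent.H58 Cfsg.Agent.H17

open LyR (E basis)

theorem rule : UnitsOK E mats ∧ RuleOK (elM E mats) LF.rels LF.iv :=
  ruleOK_of_meqs matsOK (pairs := p0 ++ (p1 ++ (p2 ++ (p3 ++ (p4 ++ (p5 ++ (p6 ++ (p7 ++ (p8 ++ (p9 ++ (p10 ++ (p11 ++ (p12 ++ (p13 ++ (p14 ++ (p15 ++ (p16 ++ (p17 ++ (p18 ++ (p19 ++ (p20 ++ (p21)))))))))))))))))))))) rfl (List.forall_mem_append.2 ⟨p0_eq, List.forall_mem_append.2 ⟨p1_eq, List.forall_mem_append.2 ⟨p2_eq, List.forall_mem_append.2 ⟨p3_eq, List.forall_mem_append.2 ⟨p4_eq, List.forall_mem_append.2 ⟨p5_eq, List.forall_mem_append.2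 ⟨p6_eq, List.forall_mem_append.2 ⟨p7_eq, List.forall_mem_append.2 ⟨p8_eq, List.forall_mem_append.2 ⟨p9_eq, List.forall_mem_append.2 ⟨p10_eq, List.forall_mem_append.2 ⟨p11_eq, List.forall_mem_append.2 ⟨p12_eq, List.forall_mem_append.2 ⟨p13_eq, List.forall_mem_append.2 ⟨p14_eq, List.forall_mem_append.2 ⟨p15_eq, List.forall_mem_append.2 ⟨p16_eq, List.forall_mem_append.2 ⟨p17_eq, List.forall_mem_append.2 ⟨p18_eq, List.forall_mem_append.2 ⟨p19_eq, List.forall_mem_append.2 ⟨p20_eq, p21_eq⟩⟩⟩⟩⟩⟩⟩⟩⟩⟩⟩⟩⟩⟩⟩⟩⟩⟩⟩⟩⟩) (by decide +kernel)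

def q1_0 : List (List ℕ × List ℕ) := [([15], [4, 4, 1, 4, 4, 2]),
  ([16], [15, 15]),
  ([17], [5, 15, 5, 16, 16, 5, 15]),
  ([18], [17, 17, 17, 17]),
  ([19], [3, 3, 9, 3, 3, 9, 7, 9, 3]),
  ([20], [3, 3, 9, 7, 9, 3, 3, 10, 3, 1, 1, 1, 1]),
  ([21], [1, 4, 1, 4, 4, 11, 1, 4, 7, 11, 1, 1, 1, 1]),
  ([22], [1, 4, 1, 4, 4, 1, 4, 7, 1, 1, 1, 1]),
  ([23], [3, 3, 9, 3, 3, 9, 11, 7, 9, 3, 11, 1, 1, 1, 1]),
  ([24], [3, 7, 11, 3, 9, 3, 3, 7, 9, 3, 11, 7, 12, 1, 1, 1, 1]),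
  ([25], [24, 23, 17, 21, 17, 17, 24, 22, 23, 19, 22, 23, 24, 18, 18, 21, 18, 23, 24]),
  ([26], [4, 15, 3]),
  ([27], [26, 26]),
  ([28], [26, 15, 27, 16, 26]),
  ([29], [28, 28, 28])]
theorem q1_0_0 : meqAt E 37 (LyR.mats ++ ex1) q1_0 0 = true := by decide +kernel
theorem q1_0_1 : meqAt E 37 (LyR.mats ++ ex1) q1_0 1 = true := by decide +kernel
theorem q1_0_2 : meqAt E 37 (LyR.mats ++ ex1) q1_0 2 = true := by decide +kernel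
theorem q1_0_eq : ∀ q ∈ q1_0, (q.1.map (lmat E (LyR.mats ++ ex1))).prod = (q.2.map (lmat E (LyR.mats ++ ex1))).prod :=
  meq_sound matsOK1 (m := 37) (J := 3) (by decide) basis (blocks_cons (blocks_cons (blocks_cons (blocks_nil _) q1_0_0) q1_0_1) q1_0_2)

theorem slp1 : ∀ K : Subgroup (GL (Fin E.n) (ZMod E.p)), (∀ x, elM E LyR.mats x ∈ K) →
    ∀ x, elM E (LyR.mats ++ ex1) x ∈ K :=
  (slp_sound LyR.rule.1 matsOK1 (pairs := q1_0) (q1_0_eq) (by decide +kernel)).2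

def q3_0 : List (List ℕ × List ℕ) := [([14], [4, 7, 6, 4, 6, 5, 7, 6, 7, 6, 5, 7, 5, 6, 1, 4, 6, 5, 2, 3, 4, 11]),
  ([15], [14, 14, 14, 14]),
  ([16], [5, 8, 6, 4, 5, 13, 6, 1, 8, 1, 2, 1, 2]),
  ([17], [16, 16, 16, 16, 16, 16, 16]),
  ([18], [13, 11, 13, 11]),
  ([19], [18, 18, 18, 18]),
  ([20], [16, 16, 18, 14, 19, 17, 17, 17, 15, 16]),
  ([21], [1, 3, 1, 2, 3, 1]),
  ([22], [6, 12, 5, 6, 13, 5, 4, 1, 2, 1, 2])]
theorem q3_0_0 : meqAt E 37 (mats ++ ex3) q3_0 0 = true := by decide +kernel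
theorem q3_0_1 : meqAt E 37 (mats ++ ex3) q3_0 1 = true := by decide +kernel
theorem q3_0_2 : meqAt E 37 (mats ++ ex3) q3_0 2 = true := by decide +kernel
theorem q3_0_eq : ∀ q ∈ q3_0, (q.1.map (lmat E (mats ++ ex3))).prod = (q.2.map (lmat E (mats ++ ex3))).prod :=
  meq_sound matsOK3 (m := 37) (J := 3) (by decide) basis (blocks_cons (blocks_cons (blocks_cons (blocks_nil _) q3_0_0) q3_0_1) q3_0_2)

theorem slp3 : ∀ K : Subgroup (GL (Fin E.n) (ZMod E.p)), (∀ x, elM E mats x ∈ K) →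
    ∀ x, elM E (mats ++ ex3) x ∈ K :=
  (slp_sound rule.1 matsOK3 (pairs := q3_0) (q3_0_eq) (by decide +kernel)).2


end Cfsg.Agent.AN.LR
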