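import Cfsg.Agent.AN.Rep.LRD

set_option autoImplicit false
set_option Elab.async false
set_option maxRecDepth 100000
set_option exponentiation.threshold 400000

namespace Cfsg.Agent.AN.LR

open Cfsg Cfsg.Agent.H58 Cfsg.Agent.H17

open LyR (E basis)

def p0 : List (List ℕ × List ℕ) := [([1, 1], []),
  ([2, 2], []),
  ([3, 3], []),
  ([4, 4], []),
  ([5, 5], []),
  ([6, 6], []),
  ([7, 7], []),
  ([9, 8], []),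
  ([8, 9], []),
  ([11, 10], []),
  ([10, 11], []),
  ([13, 12], []),
  ([12, 13], []),
  ([1, 2, 1, 2], [2, 1, 2, 1]),
  ([1, 3, 1, 3], [3, 1, 3, 1]),
  ([1, 4], [4, 1]),
  ([1, 5, 1, 5], [5, 1, 5, 1]),
  ([1, 6, 1], [6, 1, 6]),
  ([2, 3, 2, 3], [3, 2, 3, 2]),
  ([2, 4], [4, 2]),
  ([2, 5, 2], [5, 2, 5]),
  ([2, 6, 2, 6], [6, 2, 6, 2]),
  ([4, 3, 4], [3, 4, 3]),
  ([5, 3], [3, 5]),
  ([6, 3], [3, 6]),
  ([5, 4, 5, 4], [4, 5, 4, 5]),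
  ([6, 4, 6, 4], [4, 6, 4, 6]),
  ([5, 6, 5, 6], [6, 5, 6, 5]),
  ([1, 2, 4, 1, 2, 4], [4, 2, 1, 4, 2, 1]),
  ([1, 4, 3, 1, 4], [3, 4, 1, 3])]
theorem p0_0 : meqAt E 37 mats p0 0 = true := by decide +kernel
theorem p0_1 : meqAt E 37 mats p0 1 = true := by decide +kernel
theorem p0_2 : meqAt E 37 mats p0 2 = true := by decide +kernel
theorem p0_eq : ∀ q ∈ p0, (q.1.map (lmat E mats)).prod = (q.2.map (lmat E mats)).prod :=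
  meq_sound matsOK (m := 37) (J := 3) (by decide) basis (blocks_cons (blocks_cons (blocks_cons (blocks_nil _) p0_0) p0_1) p0_2)

def p4 : List (List ℕ × List ℕ) := [([1, 4, 1, 4, 3], [3, 4, 1, 4, 1]),
  ([1, 5, 1, 5, 3], [3, 5, 1, 5, 1]),
  ([1, 5, 3, 5, 3], [3, 5, 3, 5, 1]),
  ([1, 6, 3, 6, 3], [3, 6, 3, 6, 1]),
  ([1, 5, 4, 1, 4], [4, 1, 4, 5, 1]),
  ([1, 6, 4, 1, 4], [4, 1, 4, 6, 1]),
  ([1, 5, 1, 5, 4], [4, 5, 1, 5, 1]),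
  ([1, 5, 4, 5, 4], [4, 5, 4, 5, 1]),
  ([1, 5, 1, 5, 6], [6, 5, 1, 5, 1]),
  ([2, 6, 3, 2, 3], [3, 2, 3, 6, 2]),
  ([2, 4, 2, 4, 3], [3, 4, 2, 4, 2]),
  ([2, 5, 3, 5, 3], [3, 5, 3, 5, 2]),
  ([2, 6, 2, 6, 3], [3, 6, 2, 6, 2]),
  ([2, 6, 3, 6, 3], [3, 6, 3, 6, 2]),
  ([2, 5, 4, 2, 4], [4, 2, 4, 5, 2])]
theorem p4_0 : meqAt E 37 mats p4 0 = true := by decide +kernel
theorem p4_1 : meqAt E 37 mats p4 1 = true := by decide +kernel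
theorem p4_2 : meqAt E 37 mats p4 2 = true := by decide +kernel
theorem p4_eq : ∀ q ∈ p4, (q.1.map (lmat E mats)).prod = (q.2.map (lmat E mats)).prod :=
  meq_sound matsOK (m := 37) (J := 3) (by decide) basis (blocks_cons (blocks_cons (blocks_cons (blocks_nil _) p4_0) p4_1) p4_2)

def p8 : List (List ℕ × List ℕ) := [([1, 5, 1, 3, 5, 3], [3, 5, 3, 1, 5, 1]),
  ([1, 5, 4, 3, 5, 3], [3, 5, 3, 4, 5, 1]),
  ([1, 4, 5, 3, 5, 3], [3, 5, 3, 5, 4, 1]),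
  ([1, 4, 1, 4, 5, 3], [3, 5, 4, 1, 4, 1]),
  ([1, 5, 1, 6, 5, 3], [3, 5, 6, 1, 5, 1]),
  ([1, 6, 5, 6, 5, 3], [3, 5, 6, 5, 6, 1]),
  ([1, 4, 6, 3, 6, 3], [3, 6, 3, 6, 4, 1]),
  ([1, 4, 1, 4, 6, 3], [3, 6, 4, 1, 4, 1]),
  ([1, 5, 1, 5, 6, 3], [3, 6, 5, 1, 5, 1]),
  ([1, 5, 6, 5, 6, 3], [3, 6, 5, 6, 5, 1]),
  ([1, 4, 1, 4, 2, 4], [4, 2, 4, 1, 4, 1]),
  ([1, 5, 3, 4, 1, 4], [4, 1, 4, 3, 5, 1])]
theorem p8_0 : meqAt E 37 mats p8 0 = true := by decide +kernel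
theorem p8_1 : meqAt E 37 mats p8 1 = true := by decide +kernel
theorem p8_2 : meqAt E 37 mats p8 2 = true := by decide +kernel
theorem p8_eq : ∀ q ∈ p8, (q.1.map (lmat E mats)).prod = (q.2.map (lmat E mats)).prod :=
  meq_sound matsOK (m := 37) (J := 3) (by decide) basis (blocks_cons (blocks_cons (blocks_cons (blocks_nil _) p8_0) p8_1) p8_2)

def p12 : List (List ℕ × List ℕ) := [([2, 6, 2, 3, 6, 3], [3, 6, 3, 2, 6, 2]),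
  ([2, 6, 4, 3, 6, 3], [3, 6, 3, 4, 6, 2]),
  ([2, 4, 6, 3, 6, 3], [3, 6, 3, 6, 4, 2]),
  ([2, 4, 2, 4, 6, 3], [3, 6, 4, 2, 4, 2]),
  ([2, 5, 6, 3, 2, 6], [6, 2, 3, 6, 5, 2]),
  ([2, 5, 6, 5, 6, 3], [3, 6, 5, 6, 5, 2]),
  ([2, 5, 3, 4, 2, 4], [4, 2, 4, 3, 5, 2]),
  ([2, 6, 3, 4, 2, 4], [4, 2, 4, 3, 6, 2]),
  ([2, 5, 4, 5, 2, 4], [4, 2, 5, 4, 5, 2]),
  ([2, 6, 2, 6, 2, 4], [4, 2, 6, 2, 6, 2]),
  ([2, 6, 4, 6, 2, 4], [4, 2, 6, 4, 6, 2]),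
  ([2, 5, 3, 5, 3, 4], [4, 3, 5, 3, 5, 2])]
theorem p12_0 : meqAt E 37 mats p12 0 = true := by decide +kernel
theorem p12_1 : meqAt E 37 mats p12 1 = true := by decide +kernel
theorem p12_2 : meqAt E 37 mats p12 2 = true := by decide +kernel
theorem p12_eq : ∀ q ∈ p12, (q.1.map (lmat E mats)).prod = (q.2.map (lmat E mats)).prod :=
  meq_sound matsOK (m := 37) (J := 3) (by decide) basis (blocks_cons (blocks_cons (blocks_cons (blocks_nil _) p12_0) p12_1) p12_2)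

def p16 : List (List ℕ × List ℕ) := [([4, 5, 7, 5, 7, 5, 4, 5, 7], [5, 7, 5, 7, 5, 4, 5, 7, 5]),
  ([3, 5, 7, 4, 7, 5, 3, 5, 7], [5, 7, 4, 7, 5, 3, 5, 7, 4]),
  ([3, 5, 4, 7, 4, 5, 3, 5, 4], [5, 4, 7, 4, 5, 3, 5, 4, 7]),
  ([5, 4, 7, 4, 5, 4, 7, 4, 5, 4], [4, 7, 4, 5, 4, 7, 4, 5, 4, 7]),
  ([4, 5, 7, 5, 4, 5, 7, 5, 4, 5], [5, 7, 5, 4, 5, 7, 5, 4, 5, 7]),
  ([4, 7, 5, 7, 4, 7, 5, 7, 4, 7], [7, 5, 7, 4, 7, 5, 7, 4, 7, 5]),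
  ([5, 7, 5, 4, 7, 4, 5, 7, 5, 7, 5, 4], [7, 5, 4, 7, 4, 5, 7, 5, 7, 5, 4, 7])]
theorem p16_0 : meqAt E 37 mats p16 0 = true := by decide +kernel
theorem p16_1 : meqAt E 37 mats p16 1 = true := by decide +kernel
theorem p16_2 : meqAt E 37 mats p16 2 = true := by decide +kernel
theorem p16_eq : ∀ q ∈ p16, (q.1.map (lmat E mats)).prod = (q.2.map (lmat E mats)).prod :=
  meq_sound matsOK (m := 37) (J := 3) (by decide) basis (blocks_cons (blocks_cons (blocks_cons (blocks_nil _) p16_0) p16_1) p16_2)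

def p20 : List (List ℕ × List ℕ) := [([3, 6, 7, 4, 7, 6, 3, 6, 7], [6, 7, 4, 7, 6, 3, 6, 7, 4]),
  ([3, 6, 7, 3, 7, 6, 3, 6, 7], [6, 7, 3, 7, 6, 3, 6, 7, 3]),
  ([3, 6, 4, 7, 4, 6, 3, 6, 4], [6, 4, 7, 4, 6, 3, 6, 4, 7]),
  ([3, 6, 3, 7, 3, 6, 3, 6, 3], [6, 3, 7, 3, 6, 3, 6, 3, 7]),
  ([6, 2, 7, 2, 6, 2, 7, 2, 6, 2], [2, 7, 2, 6, 2, 7, 2, 6, 2, 7]),
  ([7, 3, 4, 7], [10, 4, 3]),
  ([10, 7], [7, 10]),
  ([8, 7, 9, 7], [7, 4, 3, 4]),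
  ([12, 12], [13]),
  ([4, 12], [13, 4]),
  ([3, 12], [13, 3]),
  ([1, 2, 12], [13, 1, 2]),
  ([1, 3, 1, 5, 6, 12], [12, 1, 3, 1, 5, 6])]
theorem p20_0 : meqAt E 37 mats p20 0 = true := by decide +kernel
theorem p20_1 : meqAt E 37 mats p20 1 = true := by decide +kernel
theorem p20_2 : meqAt E 37 mats p20 2 = true := by decide +kernel
theorem p20_eq : ∀ q ∈ p20, (q.1.map (lmat E mats)).prod = (q.2.map (lmat E mats)).prod :=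
  meq_sound matsOK (m := 37) (J := 3) (by decide) basis (blocks_cons (blocks_cons (blocks_cons (blocks_nil _) p20_0) p20_1) p20_2)


end Cfsg.Agent.AN.LR
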